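import Cfsg.Agent.Lib.SporRecognition.CosetCert.Chain
import Cfsg.Agent.Lib.FusionExamples.J4Sub.Defs7

/-! Generated coset-enumeration certificate: J47 over <>, 60 cosets. -/

set_option autoImplicit false
set_option maxRecDepth 20000
set_option linter.all false
set_option Elab.async false

namespace CfsgLib.FusionExamples.J4Sub.Stab.S60

open CfsgLib.SporRecognition.CosetCert

def T1Lit : Nat := 0xeb9ef4cb0db3e31df58ef8ad86b8297e77a5bacaa89a445d41b3d939735531371a61651214b1090c7288180081
noncomputable def T1 (u : Nat) : Nat := Nat.land (Nat.shiftRight T1Lit (Nat.mul 6 u)) 63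
def T2Lit : Nat := 0xe7beb3c75c38d37cb6ba3b22aa1a2099f91ebedae99e571169060f58e50d48c75b6575532852041832c91c1002
noncomputable def T2 (u : Nat) : Nat := Nat.land (Nat.shiftRight T2Lit (Nat.mul 6 u)) 63
def T3Lit : Nat := 0xe37dbbeb9becae89e4d6dbb4ce9ab2c659b071b6175134a38996a181559f79d2ca2481c64503ce34c081005103
noncomputable def T3 (u : Nat) : Nat := Nat.land (Nat.shiftRight T3Lit (Nat.mul 6 u)) 63
def T4Lit : Nat := 0xe37dbbeb9becae89e4d6dbb4ce9ab2c659b071b6175134a38996a181559f79d2ca2481c64503ce34c081005103
noncomputable def T4 (u : Nat) : Nat := Nat.land (Nat.shiftRight T4Lit (Nat.mul 6 u)) 63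

noncomputable def tabs : CfsgLib.FusionExamples.J4Sub.Stab.Gen → Bool → Nat → Nat :=
  fun a b => match a with
  | .g1 => bif b then (fun u => u) else (fun u => u)
  | .g5 => bif b then (fun u => u) else (fun u => u)
  | .g12 => bif b then T1 else T2
  | .g15 => bif b then (fun u => u) else (fun u => u)
  | .g20 => bif b then (fun u => u) else (fun u => u)
  | .g22 => bif b then (fun u => u) else (fun u => u)
  | .g25 => bif b then (fun u => u) else (fun u => u)
  | .a => bif b then T3 else T4

def lets : List (CfsgLib.FusionExamples.J4Sub.Stab.Gen × Bool) := [(.g12, true), (.g12, false), (.a, true), (.a, false)]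
def invols : List CfsgLib.FusionExamples.J4Sub.Stab.Gen := []
def pairs : List (CfsgLib.FusionExamples.J4Sub.Stab.Gen × CfsgLib.FusionExamples.J4Sub.Stab.Gen) := []
def extraW : List (List (CfsgLib.FusionExamples.J4Sub.Stab.Gen × Bool)) := [
  [(.g22, false), (.g22, false), (.g22, false)],
  [(.g20, false), (.g20, false), (.g20, false)],
  [(.g15, false), (.g15, false), (.g15, false)],
  [(.g12, false), (.g12, false), (.g12, false)],
  [(.g5, false), (.g5, false), (.g5, false)],
  [(.g1, false), (.g1, false), (.g1, false)],
  [(.g22, false), (.g20, false), (.g22, true), (.g5, true)],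
  [(.g25, false), (.g25, false), (.g22, false), (.g20, false), (.g15, true)],
  [(.g25, false), (.g25, false), (.g5, false), (.g22, false), (.g15, true)],
  [(.g22, false), (.g15, false), (.g1, true), (.g5, false), (.g20, false)],
  [(.g12, false), (.g1, true), (.g5, true), (.g1, true), (.g5, true)],
  [(.g25, false), (.g12, false), (.g15, false), (.g12, true), (.g25, true), (.g22, true)],
  [(.g20, false), (.g1, false), (.g20, true), (.g1, false), (.g12, true), (.g1, true)],
  [(.g20, false), (.g1, false), (.g20, true), (.g5, true), (.g12, true), (.g5, false)],
  [(.g20, false), (.g15, true), (.g12, false), (.g15, true), (.g12, true), (.g15, false)],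
  [(.g25, false), (.g25, false), (.g25, false), (.g22, false), (.g25, false), (.g5, true), (.g12, true)],
  [(.g25, false), (.g25, false), (.g25, false), (.g22, false), (.g15, true), (.g25, true), (.g22, false)],
  [(.g25, false), (.g25, false), (.g22, false), (.g15, true), (.g12, false), (.g15, false), (.g12, true)],
  [(.g25, false), (.g22, true), (.g12, true), (.g15, true), (.g5, true), (.g20, true), (.g1, true)],
  [(.g20, false), (.g1, false), (.g20, true), (.g5, true), (.g1, true), (.g5, true), (.g1, true)],
  [(.g25, false), (.g25, false), (.g25, false), (.g5, false), (.g25, true), (.g25, true), (.g25, true), (.g22, true)],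
  [(.g25, false), (.g25, false), (.g15, true), (.g12, true), (.g20, false), (.g1, false), (.g5, true), (.g22, true)],
  [(.g22, false), (.g5, false), (.g1, false), (.g5, true), (.g22, false), (.g5, false), (.g1, false), (.g5, true)],
  [(.g20, false), (.g12, false), (.g15, false), (.g12, true), (.g20, false), (.g12, false), (.g15, false), (.g12, true)],
  [(.g20, false), (.g1, false), (.g12, false), (.g15, false), (.g20, false), (.g1, false), (.g12, false), (.g15, false)],
  [(.g20, false), (.g1, false), (.g20, true), (.g12, false), (.g20, false), (.g1, false), (.g20, true), (.g12, false)],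
  [(.g25, false), (.g25, false), (.g25, false), (.g15, true), (.g12, false), (.g15, false), (.g25, true), (.g22, false), (.g5, false), (.g22, true)],
  [(.g25, false), (.g25, false), (.g22, false), (.g5, false), (.g20, false), (.g1, false), (.g5, true), (.g1, true), (.g20, true), (.g22, true)],
  [(.g25, false), (.g25, false), (.g15, false), (.g25, true), (.g25, true), (.g15, true), (.g12, true), (.g25, true), (.g25, true), (.g22, false)],
  [(.g25, false), (.g25, false), (.g5, false), (.g1, true), (.g20, false), (.g1, false), (.g5, true), (.g12, false), (.g15, false), (.g22, true)],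
  [(.g20, false), (.g1, true), (.g20, false), (.g1, true), (.g20, false), (.g1, true), (.g20, false), (.g1, true), (.g20, false), (.g1, true)],
  [(.g15, false), (.g12, true), (.g15, false), (.g12, true), (.g15, false), (.g12, true), (.g15, false), (.g12, true), (.g15, false), (.g12, true)],
  [(.g25, false), (.g25, false), (.g25, false), (.g25, false), (.g25, false), (.g25, false), (.g25, false), (.g25, false), (.g25, false), (.g25, false), (.g25, false), (.g25, false), (.g25, false), (.g25, false), (.g25, false), (.g25, false), (.g25, false), (.g25, false), (.g25, false), (.g25, false), (.g25, false), (.g25, false), (.g25, false)],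
  [(.g1, true), (.g12, false), (.g1, true), (.g12, false), (.g1, true), (.a, false)]]
def relW : List (List (CfsgLib.FusionExamples.J4Sub.Stab.Gen × Bool)) := [
  [(.g22, false), (.g22, false), (.g22, false)],
  [(.g20, false), (.g20, false), (.g20, false)],
  [(.g15, false), (.g15, false), (.g15, false)],
  [(.g12, false), (.g12, false), (.g12, false)],
  [(.g5, false), (.g5, false), (.g5, false)],
  [(.g1, false), (.g1, false), (.g1, false)],
  [(.g22, false), (.g20, false), (.g22, true), (.g5, true)],
  [(.g25, false), (.g25, false), (.g22, false), (.g20, false), (.g15, true)],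
  [(.g25, false), (.g25, false), (.g5, false), (.g22, false), (.g15, true)],
  [(.g22, false), (.g15, false), (.g1, true), (.g5, false), (.g20, false)],
  [(.g12, false), (.g1, true), (.g5, true), (.g1, true), (.g5, true)],
  [(.g25, false), (.g12, false), (.g15, false), (.g12, true), (.g25, true), (.g22, true)],
  [(.g20, false), (.g1, false), (.g20, true), (.g1, false), (.g12, true), (.g1, true)],
  [(.g20, false), (.g1, false), (.g20, true), (.g5, true), (.g12, true), (.g5, false)],
  [(.g20, false), (.g15, true), (.g12, false), (.g15, true), (.g12, true), (.g15, false)],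
  [(.g25, false), (.g25, false), (.g25, false), (.g22, false), (.g25, false), (.g5, true), (.g12, true)],
  [(.g25, false), (.g25, false), (.g25, false), (.g22, false), (.g15, true), (.g25, true), (.g22, false)],
  [(.g25, false), (.g25, false), (.g22, false), (.g15, true), (.g12, false), (.g15, false), (.g12, true)],
  [(.g25, false), (.g22, true), (.g12, true), (.g15, true), (.g5, true), (.g20, true), (.g1, true)],
  [(.g20, false), (.g1, false), (.g20, true), (.g5, true), (.g1, true), (.g5, true), (.g1, true)],
  [(.g25, false), (.g25, false), (.g25, false), (.g5, false), (.g25, true), (.g25, true), (.g25, true), (.g22, true)],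
  [(.g25, false), (.g25, false), (.g15, true), (.g12, true), (.g20, false), (.g1, false), (.g5, true), (.g22, true)],
  [(.g22, false), (.g5, false), (.g1, false), (.g5, true), (.g22, false), (.g5, false), (.g1, false), (.g5, true)],
  [(.g20, false), (.g12, false), (.g15, false), (.g12, true), (.g20, false), (.g12, false), (.g15, false), (.g12, true)],
  [(.g20, false), (.g1, false), (.g12, false), (.g15, false), (.g20, false), (.g1, false), (.g12, false), (.g15, false)],
  [(.g20, false), (.g1, false), (.g20, true), (.g12, false), (.g20, false), (.g1, false), (.g20, true), (.g12, false)],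
  [(.g25, false), (.g25, false), (.g25, false), (.g15, true), (.g12, false), (.g15, false), (.g25, true), (.g22, false), (.g5, false), (.g22, true)],
  [(.g25, false), (.g25, false), (.g22, false), (.g5, false), (.g20, false), (.g1, false), (.g5, true), (.g1, true), (.g20, true), (.g22, true)],
  [(.g25, false), (.g25, false), (.g15, false), (.g25, true), (.g25, true), (.g15, true), (.g12, true), (.g25, true), (.g25, true), (.g22, false)],
  [(.g25, false), (.g25, false), (.g5, false), (.g1, true), (.g20, false), (.g1, false), (.g5, true), (.g12, false), (.g15, false), (.g22, true)],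
  [(.g20, false), (.g1, true), (.g20, false), (.g1, true), (.g20, false), (.g1, true), (.g20, false), (.g1, true), (.g20, false), (.g1, true)],
  [(.g15, false), (.g12, true), (.g15, false), (.g12, true), (.g15, false), (.g12, true), (.g15, false), (.g12, true), (.g15, false), (.g12, true)],
  [(.g25, false), (.g25, false), (.g25, false), (.g25, false), (.g25, false), (.g25, false), (.g25, false), (.g25, false), (.g25, false), (.g25, false), (.g25, false), (.g25, false), (.g25, false), (.g25, false), (.g25, false), (.g25, false), (.g25, false), (.g25, false), (.g25, false), (.g25, false), (.g25, false), (.g25, false), (.g25, false)],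
  [(.g1, true), (.g12, false), (.g1, true), (.g12, false), (.g1, true), (.a, false)]]
def subW : List (List (CfsgLib.FusionExamples.J4Sub.Stab.Gen × Bool)) := [
  ]

end CfsgLib.FusionExamples.J4Sub.Stab.S60
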